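import Cfsg.Agent.H682.TE6.Comm

/-!
# An element `w` commuting with the torus and the normal subgroups of order prime to `n` (helper290)

* `core_w` : if `w` (of prime order `w₀`) centralises the normal `t`-subgroups of `K` in the solvable normal subgroup
  `O`, and the elements of order `w₀` of the normal `w₀`-subgroups in `O` are in `⟨w⟩`, then `w ∈ O` and `⟨w⟩` is normal,
  or `w ∉ O` and `w` centralises `O`;
* `commute_of_simple` : in the second case `y` centralises `O`, if the image of `y` is in a simple normal subgroup of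
  `K / O` with trivial centraliser;
* `eq_bot_of_fpf`, `commute_w` : numerics for the normal `t`-subgroups on which `y` has no fixed points.
-/

set_option autoImplicit false
set_option linter.unusedSectionVars false

namespace Cfsg.Agent.H290.Wei

open Subgroup Cfsg.Agent.H56.Exc Cfsg.Agent.H563.KG Cfsg.Agent.H682.TE6

universe u

section core

variable {K : Type u} [Group K] [Finite K]

/-- the elements of exponent `k` of an abelian normal subgroup -/
def Om (A : Subgroup K) (hA : ∀ a ∈ A, ∀ b ∈ A, a * b = b * a) (k : ℕ) : Subgroup K where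
  carrier := {a | a ∈ A ∧ a ^ k = 1}
  one_mem' := ⟨A.one_mem, one_pow k⟩
  mul_mem' := fun {a b} ha hb => ⟨A.mul_mem ha.1 hb.1, by
    have hc : Commute a b := hA a ha.1 b hb.1
    rw [hc.mul_pow, ha.2, hb.2, one_mul]⟩
  inv_mem' := fun {a} ha => ⟨A.inv_mem ha.1, by rw [inv_pow, ha.2, inv_one]⟩

theorem Om_normal {A : Subgroup K} [hn : A.Normal] (hA : ∀ a ∈ A, ∀ b ∈ A, a * b = b * a) (k : ℕ) :
    (Om A hA k).Normal :=
  ⟨fun a ha g => ⟨hn.conj_mem a ha.1 g, by rw [conj_pow, ha.2, mul_one, mul_inv_cancel]⟩⟩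

/-- **The element `w`.** -/
theorem core_w {w : K} {w₀ : ℕ} (hw : orderOf w = w₀) (hw₀ : w₀.Prime) {O : Subgroup K} [O.Normal]
    (hOs : Group.IsSolvable O)
    (hR : ∀ (t : ℕ) (R : Subgroup K), t.Prime → R.Normal → IsPGroup t R → R ≤ O → ∀ u ∈ R, Commute u w)
    (hΩ : ∀ R : Subgroup K, R.Normal → IsPGroup w₀ R → R ≤ O → ∀ u ∈ R, u ^ w₀ = 1 → u ∈ zpowers w) :
    (w ∈ O ∧ (zpowers w).Normal) ∨ (w ∉ O ∧ ∀ u ∈ O, Commute u w) := by
  set D := Subgroup.normalClosure ({w} : Set K) with hD
  have hwD : w ∈ D := Subgroup.subset_normalClosure rfl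
  set Z := O ⊓ centralizer (D : Set K) with hZ
  have hZn : Z.Normal := inferInstance
  have hZw : ∀ z ∈ Z, Commute z w := fun z hz => ((mem_centralizer_iff.1 hz.2) w hwD).symm
  have hDZ : D ≤ centralizer (Z : Set K) := Subgroup.le_centralizer_iff.1 (inf_le_right : Z ≤ centralizer (D : Set K))
  set W := O ⊓ centralizer (Z : Set K) with hW
  have hWn : W.Normal := inferInstance
  set Z' := W ⊓ Z with hZ'
  have hZ'n : Z'.Normal := inferInstance
  have hZ'W : Z' ≤ W := inf_le_left
  have hZ'Z : Z' ≤ Z := inf_le_right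
  have hZ'c : ∀ a ∈ Z', ∀ b ∈ Z', a * b = b * a := fun a ha b hb =>
    ((mem_centralizer_iff.1 (hZ'W ha).2) b (hZ'Z hb)).symm
  have key : W ≤ Z := by
    by_contra hne
    set π := QuotientGroup.mk' Z' with hπ
    have hπs := QuotientGroup.mk'_surjective Z'
    have hN : (W.map π).Normal := hWn.map π hπs
    have hWs : Group.IsSolvable W := Group.isSolvable_of_isSolvable_injective (f := Subgroup.inclusion (inf_le_left : W ≤ O))
      (Subgroup.inclusion_injective _)
    have hsolv : Group.IsSolvable (W.map π) := by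
      have := hWs
      exact Group.isSolvable_of_surjective (f := (π.subgroupMap W)) (π.subgroupMap_surjective W)
    have hne' : W.map π ≠ ⊥ := by
      intro h
      apply hne
      rw [Subgroup.map_eq_bot_iff, QuotientGroup.ker_mk'] at h
      exact h.trans hZ'Z
    obtain ⟨t, ht, A', hAn, hAN, hA0, -, hAt⟩ := exists_elem' hN hsolv hne'
    have := Fact.mk ht
    set A := A'.comap π with hA
    have hAn' : A.Normal := hAn.comap π
    have hAW : A ≤ W := by
      intro a ha
      obtain ⟨v, hv, hva⟩ := hAN (show π a ∈ A' from ha)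
      have h1 : v⁻¹ * a ∈ Z' := QuotientGroup.eq.1 hva
      have h2 := W.mul_mem hv (hZ'W h1)
      rwa [mul_inv_cancel_left] at h2
    -- `A` is nilpotent
    have hnil : Group.IsNilpotent A := by
      have h1 : (π.comp A.subtype).ker ≤ center A := by
        intro a ha
        have h2 : (a : K) ∈ Z' := (QuotientGroup.eq_one_iff _).1 ha
        rw [mem_center_iff]
        intro b
        have h3 : (b : K) ∈ centralizer (Z : Set K) := (hAW b.2).2
        exact Subtype.ext ((mem_centralizer_iff.1 h3) a (hZ'Z h2)).symm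
      have h2 : IsPGroup t (π.comp A.subtype).range := by
        rintro ⟨_, ⟨a, rfl⟩⟩
        exact ⟨1, by rw [pow_one]; exact Subtype.ext (hAt _ a.2)⟩
      have h3 : Group.IsNilpotent (π.comp A.subtype).range := h2.isNilpotent
      have := h3
      refine Subgroup.isNilpotent_of_ker_le_center (π.comp A.subtype).rangeRestrict ?_
      rw [MonoidHom.ker_rangeRestrict]
      exact h1
    obtain ⟨P⟩ : Nonempty (Sylow t A) := inferInstance
    have hPn : (P : Subgroup A).Normal := by
      have h1 := (Group.isNilpotent_of_finite_tfae (G := A)).out 0 3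
      exact (h1.1 hnil) t inferInstance P
    have hPc : (P : Subgroup A).Characteristic := P.characteristic_of_normal hPn
    have hRn : ((P : Subgroup A).map A.subtype).Normal := inferInstance
    have hRp : IsPGroup t ((P : Subgroup A).map A.subtype) := P.2.map _
    have hRW : (P : Subgroup A).map A.subtype ≤ W := by
      rintro _ ⟨a, -, rfl⟩
      exact hAW a.2
    have hRO : (P : Subgroup A).map A.subtype ≤ O := hRW.trans inf_le_left
    have hRZ : (P : Subgroup A).map A.subtype ≤ Z' :=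
      le_inf hRW (le_inf hRO (le_centralizer_closure (hR t _ ht hRn hRp hRO)))
    apply hA0
    rw [eq_bot_iff]
    intro a' ha'
    obtain ⟨a, rfl⟩ := hπs a'
    have haA : a ∈ A := ha'
    rw [Subgroup.mem_bot]
    -- a power of `a` prime to `t` is in `P`
    have hj0 : orderOf a ≠ 0 := (orderOf_pos a).ne'
    have hcop : ¬ t ∣ orderOf a / t ^ (orderOf a).factorization t := Nat.not_dvd_ordCompl ht hj0
    have h1 : a ^ (orderOf a / t ^ (orderOf a).factorization t) ∈ (P : Subgroup A).map A.subtype := by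
      refine ⟨⟨a, haA⟩ ^ (orderOf a / t ^ (orderOf a).factorization t), ?_, rfl⟩
      set b : A := ⟨a, haA⟩ ^ (orderOf a / t ^ (orderOf a).factorization t) with hb
      have h2 : IsPGroup t (zpowers b) := by
        refine IsPGroup.of_card (n := (orderOf a).factorization t) ?_
        rw [Nat.card_zpowers, hb, orderOf_pow_of_dvd, Subgroup.orderOf_mk]
        · rw [Nat.div_div_self (Nat.ordProj_dvd _ _) hj0]
        · exact fun h => hcop (h ▸ dvd_zero t)
        · rw [Subgroup.orderOf_mk]
          exact Nat.div_dvd_of_dvd (Nat.ordProj_dvd _ _)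
      obtain ⟨Q, hQ⟩ := h2.exists_le_sylow
      have h3 : Q = P := by
        have := P.unique_of_normal hPn
        exact Subsingleton.elim Q P
      rw [← h3]
      exact hQ (mem_zpowers b)
    have h2 : π a ^ (orderOf a / t ^ (orderOf a).factorization t) = 1 := by
      rw [← map_pow]
      exact (QuotientGroup.eq_one_iff _).2 (hRZ h1)
    have h3 : π a ^ t = 1 := hAt _ ha'
    have h4 := Nat.dvd_gcd (orderOf_dvd_of_pow_eq_one h2) (orderOf_dvd_of_pow_eq_one h3)
    have h5 : Nat.gcd (orderOf a / t ^ (orderOf a).factorization t) t = 1 :=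
      ((Nat.Prime.coprime_iff_not_dvd ht).2 hcop).symm
    rw [h5, Nat.dvd_one] at h4
    exact orderOf_eq_one_iff.1 h4
  -- the elements of order `w₀` of `Z'`
  have hOmn : (Om Z' hZ'c w₀).Normal := Om_normal hZ'c w₀
  have hOm : ∀ u ∈ Om Z' hZ'c w₀, u ∈ zpowers w := fun u hu =>
    hΩ _ hOmn (fun a => ⟨1, by rw [pow_one]; exact Subtype.ext a.2.2⟩) (fun a ha => (hZ'W ha.1).1) u hu hu.2
  by_cases hwO : w ∈ O
  · left
    refine ⟨hwO, ?_⟩
    have h1 : w ∈ W := ⟨hwO, hDZ hwD⟩
    have h2 : w ∈ Om Z' hZ'c w₀ := ⟨⟨h1, key h1⟩, by rw [← hw, pow_orderOf_eq_one]⟩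
    have h3 : zpowers w = Om Z' hZ'c w₀ := le_antisymm ((zpowers_le).2 h2) hOm
    rw [h3]
    exact hOmn
  · right
    refine ⟨hwO, fun u hu => ?_⟩
    have hf : u * w * u⁻¹ = (u * w * u⁻¹ * w⁻¹) * w := by group
    have hfW : u * w * u⁻¹ * w⁻¹ ∈ W := by
      refine ⟨?_, ?_⟩
      · have h1 : u * (w * u⁻¹ * w⁻¹) ∈ O := O.mul_mem hu ((inferInstance : O.Normal).conj_mem _ (O.inv_mem hu) w)
        have h2 : u * (w * u⁻¹ * w⁻¹) = u * w * u⁻¹ * w⁻¹ := by group
        rwa [h2] at h1
      · have hw' : w ∈ centralizer (Z : Set K) := hDZ hwD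
        have hCn : (centralizer (Z : Set K)).Normal := inferInstance
        exact (centralizer (Z : Set K)).mul_mem (hCn.conj_mem _ hw' u) ((centralizer (Z : Set K)).inv_mem hw')
    have hfZ := key hfW
    have hfw : Commute (u * w * u⁻¹ * w⁻¹) w := hZw _ hfZ
    have h1 : (u * w * u⁻¹ * w⁻¹) ^ w₀ = 1 := by
      have h2 : ((u * w * u⁻¹ * w⁻¹) * w) ^ w₀ = 1 := by
        rw [← hf, conj_pow, ← hw, pow_orderOf_eq_one, mul_one, mul_inv_cancel]
      rw [hfw.mul_pow, ← hw, pow_orderOf_eq_one, mul_one] at h2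
      rw [← hw]
      exact h2
    have h2 := hOm _ ⟨⟨hfW, hfZ⟩, h1⟩
    have h3 : u * w * u⁻¹ * w⁻¹ = 1 := by
      by_contra h4
      apply hwO
      have := Fact.mk hw₀
      have h5 : orderOf (u * w * u⁻¹ * w⁻¹) = w₀ := orderOf_eq_prime_iff.2 ⟨h1, h4⟩
      have h6 : zpowers (u * w * u⁻¹ * w⁻¹) = zpowers w := by
        refine Subgroup.eq_of_le_of_card_ge ((zpowers_le).2 h2) ?_
        rw [Nat.card_zpowers, Nat.card_zpowers, h5, hw]
      have h7 : w ∈ zpowers (u * w * u⁻¹ * w⁻¹) := by
        rw [h6]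
        exact mem_zpowers w
      exact ((zpowers_le).2 hfW.1) h7
    rw [h3, one_mul, mul_inv_eq_iff_eq_mul] at hf
    exact hf

/-- **`y` centralises `O`.** -/
theorem commute_of_simple {y w : K} {n : ℕ} (hy : orderOf y = n) {O : Subgroup K} [O.Normal]
    (hO : (Nat.card O).Coprime n) (hwO : w ∉ O) (hw : ∀ u ∈ O, Commute u w) {S : Subgroup (K ⧸ O)} [hSn : S.Normal]
    [IsSimpleGroup S] (hSc : centralizer (S : Set (K ⧸ O)) = ⊥) (hyS : QuotientGroup.mk' O y ∈ S) :
    ∀ u ∈ O, Commute u y := by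
  set C := centralizer (O : Set K) with hC
  have hCn : C.Normal := inferInstance
  set C' := C.map (QuotientGroup.mk' O) with hC'
  have hC'n : C'.Normal := hCn.map _ (QuotientGroup.mk'_surjective O)
  have hSC : S ≤ C' := by
    have h1 : (C'.subgroupOf S).Normal := inferInstance
    rcases h1.eq_bot_or_eq_top with h | h
    · exfalso
      rw [Subgroup.subgroupOf_eq_bot] at h
      have h2 : C' ≤ centralizer (S : Set (K ⧸ O)) := by
        intro a ha
        rw [mem_centralizer_iff]
        intro b hb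
        exact (Subgroup.commute_of_normal_of_disjoint S C' hSn hC'n h.symm b a hb ha).eq
      rw [hSc] at h2
      have hwC : w ∈ C := by
        rw [hC, mem_centralizer_iff]
        exact fun u hu => (hw u hu).eq
      have h3 := h2 ⟨w, hwC, rfl⟩
      exact hwO ((QuotientGroup.eq_one_iff w).1 h3)
    · rwa [Subgroup.subgroupOf_eq_top] at h
  obtain ⟨c, hc, hcy⟩ := hSC hyS
  have ho : c⁻¹ * y ∈ O := QuotientGroup.eq.1 hcy
  set o := c⁻¹ * y with hoo
  have hyo : y = c * o := by rw [hoo]; group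
  have hcomm : ∀ u ∈ O, c * u * c⁻¹ = u := by
    intro u hu
    rw [mul_inv_eq_iff_eq_mul]
    exact (mem_centralizer_iff.1 hc u hu).symm
  have hact : ∀ u ∈ O, y * u * y⁻¹ = o * u * o⁻¹ := by
    intro u hu
    rw [hyo]
    have h1 : o * u * o⁻¹ ∈ O := O.mul_mem (O.mul_mem ho hu) (O.inv_mem ho)
    calc c * o * u * (c * o)⁻¹ = c * (o * u * o⁻¹) * c⁻¹ := by group
      _ = _ := hcomm _ h1
  have hpow : ∀ k : ℕ, ∀ u ∈ O, y ^ k * u * (y ^ k)⁻¹ = o ^ k * u * (o ^ k)⁻¹ := by
    intro k
    induction k with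
    | zero => intro u _; simp
    | succ k ih =>
      intro u hu
      have h1 : o ^ k * u * (o ^ k)⁻¹ ∈ O := O.mul_mem (O.mul_mem (O.pow_mem ho k) hu) (O.inv_mem (O.pow_mem ho k))
      calc y ^ (k + 1) * u * (y ^ (k + 1))⁻¹ = y * (y ^ k * u * (y ^ k)⁻¹) * y⁻¹ := by rw [pow_succ']; group
        _ = y * (o ^ k * u * (o ^ k)⁻¹) * y⁻¹ := by rw [ih u hu]
        _ = o * (o ^ k * u * (o ^ k)⁻¹) * o⁻¹ := hact _ h1
        _ = _ := by rw [pow_succ']; group
  intro u hu
  have h1 : o ^ Nat.card O = 1 := congrArg Subtype.val (pow_card_eq_one' (x := (⟨o, ho⟩ : O)))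
  have h2 := hpow (Nat.card O) u hu
  rw [h1, one_mul, inv_one, mul_one, mul_inv_eq_iff_eq_mul] at h2
  have h3 : Commute u (y ^ Nat.card O) := h2.symm
  have h4 : (Nat.card O).Coprime (orderOf y) := by rwa [hy]
  obtain ⟨k, hk⟩ := exists_pow_eq_self_of_coprime h4
  rw [← hk]
  exact h3.pow_right k

end core

section numerics

variable {K : Type u} [Group K] [Finite K]

/-- fixed points of an element of prime order -/
theorem card_mod {A : Subgroup K} {z : K} {l : ℕ} (hl : l.Prime) (hz : z ^ l = 1)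
    (hzA : ∀ a ∈ A, z * a * z⁻¹ ∈ A) :
    Nat.card A ≡ Nat.card (A ⊓ centralizer ({z} : Set K) : Subgroup K) [MOD l] := by
  classical
  have := Fact.mk hl
  have hpow : ∀ (k : ℕ) (a : K), a ∈ A → z ^ k * a * (z ^ k)⁻¹ ∈ A := by
    intro k
    induction k with
    | zero => intro a ha; simpa using ha
    | succ k ih =>
      intro a ha
      have h1 : z ^ (k + 1) * a * (z ^ (k + 1))⁻¹ = z * (z ^ k * a * (z ^ k)⁻¹) * z⁻¹ := by rw [pow_succ']; group
      rw [h1]
      exact hzA _ (ih a ha)
  have hmem : ∀ g ∈ zpowers z, ∀ a ∈ A, g * a * g⁻¹ ∈ A := by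
    intro g hg a ha
    obtain ⟨k, rfl⟩ := (mem_powers_iff_mem_zpowers).2 hg
    exact hpow k a ha
  let _ : MulAction (zpowers z) A :=
    { smul := fun g a => ⟨(g : K) * a * (g : K)⁻¹, hmem g g.2 a a.2⟩
      one_smul := fun a => Subtype.ext (by show (1 : K) * a * (1 : K)⁻¹ = a; group)
      mul_smul := fun g h a => Subtype.ext (by
        show ((g : K) * h) * a * ((g : K) * h)⁻¹ = (g : K) * ((h : K) * a * (h : K)⁻¹) * (g : K)⁻¹
        group) }
  have hP : IsPGroup l (zpowers z) := by
    rintro ⟨g, k, rfl⟩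
    refine ⟨1, Subtype.ext ?_⟩
    show (z ^ k) ^ l ^ 1 = 1
    rw [pow_one, ← zpow_natCast, ← zpow_mul, mul_comm, zpow_mul, zpow_natCast, hz, one_zpow]
  have h1 := hP.card_modEq_card_fixedPoints A
  refine h1.trans ?_
  have h2 : Nat.card (MulAction.fixedPoints (zpowers z) A) = Nat.card (A ⊓ centralizer ({z} : Set K) : Subgroup K) := by
    refine Nat.card_congr ⟨fun a => ⟨(a : A), (a : A).2, ?_⟩, fun a => ⟨⟨a, a.2.1⟩, ?_⟩, fun a => rfl, fun a => rfl⟩
    · refine mem_centralizer_singleton_iff.2 ?_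
      have h3 := congrArg Subtype.val (a.2 ⟨z, mem_zpowers z⟩)
      have h4 : z * ((a : A) : K) * z⁻¹ = ((a : A) : K) := h3
      exact (mul_inv_eq_iff_eq_mul.1 h4).symm
    · rintro ⟨g, k, rfl⟩
      apply Subtype.ext
      show z ^ k * (a : K) * (z ^ k)⁻¹ = a
      have h3 : Commute (a : K) z := mem_centralizer_singleton_iff.1 a.2.2
      rw [mul_inv_eq_iff_eq_mul]
      exact (h3.zpow_right k).symm.eq
  rw [h2]

/-- **An abelian normal `t`-subgroup on which `z` acts without fixed points.** -/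
theorem eq_bot_of_fpf {F : Type*} [Field F] {ι : Type*} [Fintype ι] [DecidableEq ι] {p : ℕ} [CharP F p]
    {τ : K →* Matrix.GeneralLinearGroup ι F} (hτ : Function.Injective τ) (hpp : p.Prime) {z : K} {n : ℕ}
    (hz : orderOf z = n) {t : ℕ} (ht : t.Prime) (htp : t ≠ p) {A : Subgroup K} [hAn : A.Normal] (hAt : IsPGroup t A)
    (hAc : ∀ a ∈ A, ∀ b ∈ A, a * b = b * a) (htn : ¬ t ∣ n)
    (hfix : ∀ x ∈ zpowers z, (orderOf x).Prime → ∀ a ∈ A, Commute a x → a = 1) (hN : Fintype.card ι < n) :
    A = ⊥ := by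
  have := Fact.mk ht
  obtain ⟨kR, hkR⟩ := IsPGroup.iff_card.1 hAt
  have hco : (Nat.card A).Coprime n := by
    rw [hkR]
    exact Nat.Coprime.pow_left _ ((Nat.Prime.coprime_iff_not_dvd ht).2 htn)
  set H := zpowers z ⊔ A with hH
  have hzH : z ∈ H := (le_sup_left : zpowers z ≤ H) (mem_zpowers z)
  have hAH : A ≤ H := le_sup_right
  have hidx : ∀ r, r.Prime → r ∣ n → ¬ r ∣ ((zpowers z).subgroupOf H).index := by
    intro r hr hrn hd
    have h1 : A.relIndex H = A.relIndex (zpowers z) := Subgroup.relIndex_sup_right _ _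
    have h2 : A.relIndex (zpowers z) ∣ n := by
      rw [← hz, ← Nat.card_zpowers]
      exact Subgroup.relIndex_dvd_card _ _
    have h3 := Subgroup.relIndex_mul_relIndex ⊥ A H bot_le hAH
    have h4 := Subgroup.relIndex_mul_relIndex ⊥ (zpowers z) H bot_le le_sup_left
    rw [Subgroup.relIndex_bot_left] at h3 h4
    rw [Subgroup.relIndex_bot_left] at h3 h4
    rw [Nat.card_zpowers, hz] at h4
    rw [h1] at h3
    obtain ⟨c, hc⟩ := h2
    have hn0 : n ≠ 0 := by rw [← hz]; exact (orderOf_pos z).ne'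
    have hk0 : A.relIndex (zpowers z) ≠ 0 := by
      intro h
      rw [h, zero_mul] at hc
      exact hn0 hc
    have h5 : (zpowers z).relIndex H ∣ Nat.card A := by
      refine ⟨c, ?_⟩
      apply Nat.eq_of_mul_eq_mul_right (Nat.pos_of_ne_zero hk0)
      rw [h3, ← h4]
      conv_lhs => rw [hc]
      ring
    have h6 : r ∣ Nat.card A := hd.trans h5
    have h7 := Nat.dvd_gcd h6 hrn
    rw [hco] at h7
    exact hr.one_lt.ne' (Nat.dvd_one.1 h7)
  have hbot : A.subgroupOf H = ⊥ := by
    refine eq_bot_of_dvd (τ := τ.comp H.subtype) (hτ.comp H.subtype_injective) (fun a ha b hb => ?_) ?_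
      (n := n) ?_ ?_ hN
    · exact Subtype.ext (hAc _ ha _ hb)
    · intro h
      rw [Nat.card_congr (Subgroup.subgroupOfEquivOfLe hAH).toEquiv, hkR] at h
      exact htp ((Nat.prime_dvd_prime_iff_eq hpp ht).1 (hpp.dvd_of_dvd_pow h)).symm
    · rw [← hz, ← Subgroup.orderOf_mk z hzH]
      exact orderOf_dvd_natCard _
    · intro x hx hxn a ha hxa
      obtain ⟨g, hg⟩ := exists_conj_mem hx (hidx _ hx hxn) rfl
      have hzx : ((g⁻¹ * x * g : H) : K) ∈ zpowers z := hg
      have ho : orderOf ((g⁻¹ * x * g : H) : K) = orderOf x := by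
        rw [Subgroup.orderOf_coe]
        have := (MulAut.conj g⁻¹).orderOf_eq x
        rw [MulAut.conj_apply, inv_inv] at this
        exact this
      have h1 : ((g⁻¹ * a * g : H) : K) ∈ A := by
        have := hAn.conj_mem (a : K) ha (g : K)⁻¹
        rwa [inv_inv] at this
      have h2 : Commute ((g⁻¹ * a * g : H) : K) ((g⁻¹ * x * g : H) : K) := by
        have h3 : (g⁻¹ * a * g) * (g⁻¹ * x * g) = (g⁻¹ * x * g) * (g⁻¹ * a * g) := by
          calc (g⁻¹ * a * g) * (g⁻¹ * x * g) = g⁻¹ * (a * x) * g := by group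
            _ = g⁻¹ * (x * a) * g := by rw [hxa]
            _ = _ := by group
        exact congrArg Subtype.val h3
      have h4 := hfix _ hzx (by rw [ho]; exact hx) _ h1 h2
      have h5 : g⁻¹ * a * g = 1 := Subtype.ext h4
      have h6 : a = g * (g⁻¹ * a * g) * g⁻¹ := by group
      rw [h6, h5, mul_one, mul_inv_cancel]
  rw [eq_bot_iff]
  intro a ha
  have h1 : (⟨a, hAH ha⟩ : H) ∈ A.subgroupOf H := ha
  rw [hbot, Subgroup.mem_bot] at h1
  exact congrArg Subtype.val h1

/-- **`w` centralises a normal `t`-subgroup on which `y`, of prime order, acts without fixed points.** -/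
theorem commute_w {F : Type*} [Field F] {ι : Type*} [Fintype ι] [DecidableEq ι] {p : ℕ} [CharP F p]
    {τ : K →* Matrix.GeneralLinearGroup ι F} (hτ : Function.Injective τ) (hpp : p.Prime) {y w : K} {n w₀ : ℕ}
    (hn : n.Prime) (hy : orderOf y = n) (hw₀ : w₀.Prime) (hw : orderOf w = w₀) (hyw : Commute y w) (hne : n ≠ w₀)
    {t : ℕ} (ht : t.Prime) (htp : t ≠ p) (htn : t ≠ n) (htw : t ≠ w₀) {R : Subgroup K} [hRn : R.Normal]
    (hRt : IsPGroup t R) (hfix : ∀ a ∈ R, Commute a y → a = 1) (hN : Fintype.card ι < n * w₀)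
    (hnum : ∀ k j : ℕ, t ^ k ∣ Nat.card K → j ≤ k → t ^ k ≡ 1 [MOD n] → t ^ j ≡ 1 [MOD n] →
      t ^ k ≡ t ^ j [MOD w₀] → j = k ∨ j = 0) : ∀ u ∈ R, Commute u w := by
  have := Fact.mk ht
  have := Fact.mk hn
  have := Fact.mk hw₀
  obtain ⟨k, hk⟩ := IsPGroup.iff_card.1 hRt
  set C := R ⊓ centralizer ({w} : Set K) with hC
  have hCR : C ≤ R := inf_le_left
  obtain ⟨j, hj⟩ := IsPGroup.iff_card.1 (hRt.to_le hCR)
  have hyn : y ^ n = 1 := by rw [← hy, pow_orderOf_eq_one]
  have hwn : w ^ w₀ = 1 := by rw [← hw, pow_orderOf_eq_one]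
  have h1 := card_mod hn hyn (A := R) fun a ha => hRn.conj_mem a ha y
  have h2 : (R ⊓ centralizer ({y} : Set K) : Subgroup K) = ⊥ := by
    rw [eq_bot_iff]
    intro a ha
    exact hfix a ha.1 (mem_centralizer_singleton_iff.1 ha.2)
  rw [h2, Subgroup.card_bot, hk] at h1
  have h3 := card_mod hn hyn (A := C) fun a ha => ⟨hRn.conj_mem a ha.1 y, by
    refine mem_centralizer_singleton_iff.2 ?_
    have h4 : Commute a w := mem_centralizer_singleton_iff.1 ha.2
    exact ((hyw.mul_left h4).mul_left hyw.inv_left).eq⟩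
  have h4 : (C ⊓ centralizer ({y} : Set K) : Subgroup K) = ⊥ := by
    rw [eq_bot_iff]
    intro a ha
    exact hfix a ha.1.1 (mem_centralizer_singleton_iff.1 ha.2)
  rw [h4, Subgroup.card_bot, hj] at h3
  have h5 := card_mod hw₀ hwn (A := R) fun a ha => hRn.conj_mem a ha w
  rw [← hC, hk, hj] at h5
  have hjk : j ≤ k := by
    have h6 := Subgroup.card_le_of_le hCR
    rw [hk, hj] at h6
    exact (Nat.pow_le_pow_iff_right ht.one_lt).1 h6
  have hcard : t ^ k ∣ Nat.card K := hk ▸ Subgroup.card_subgroup_dvd_card R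
  rcases hnum k j hcard hjk h1 h3 h5 with h6 | h6
  · have h7 : C = R := Subgroup.eq_of_le_of_card_ge hCR (by rw [hk, hj, h6])
    intro u hu
    have h8 : u ∈ C := by rw [h7]; exact hu
    exact mem_centralizer_singleton_iff.1 h8.2
  · -- `w` has no fixed points
    have hCb : C = ⊥ := by
      rw [← Subgroup.card_eq_one, hj, h6, pow_zero]
    suffices hb : R = ⊥ by
      intro u hu
      rw [hb, Subgroup.mem_bot] at hu
      rw [hu]
      exact Commute.one_left w
    by_contra hne'
    have hnt : Nontrivial R := (Subgroup.nontrivial_iff_ne_bot R).2 hne'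
    have hc := hRt.center_nontrivial
    have hchar : (center R).Characteristic := inferInstance
    have hCn : ((center R).map R.subtype).Normal := inferInstance
    have hCt : IsPGroup t ((center R).map R.subtype) := (hRt.to_subgroup _).map _
    have hord : orderOf (y * w) = n * w₀ := by
      rw [hyw.orderOf_mul_eq_mul_orderOf_of_coprime, hy, hw]
      rw [hy, hw]
      exact (Nat.coprime_primes hn hw₀).2 hne
    have hle : (center R).map R.subtype ≤ R := by
      rintro _ ⟨a, -, rfl⟩
      exact a.2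
    have hgen : ∀ {v x : K} {l : ℕ}, l.Prime → orderOf x = l → v ^ l = 1 → x ∈ zpowers v → v ∈ zpowers x := by
      intro v x l hl hx hv hxv
      have := Fact.mk hl
      have hv1 : v ≠ 1 := by
        rintro rfl
        rw [zpowers_one_eq_bot, Subgroup.mem_bot] at hxv
        rw [hxv, orderOf_one] at hx
        exact hl.one_lt.ne hx
      have hvl : orderOf v = l := orderOf_eq_prime_iff.2 ⟨hv, hv1⟩
      have h7 : zpowers x = zpowers v := by
        refine Subgroup.eq_of_le_of_card_ge ((zpowers_le).2 hxv) ?_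
        rw [Nat.card_zpowers, Nat.card_zpowers, hx, hvl]
      rw [h7]
      exact mem_zpowers v
    have hb := eq_bot_of_fpf hτ hpp hord ht htp hCt (by
      rintro _ ⟨a, ha, rfl⟩ _ ⟨b, -, rfl⟩
      exact (congrArg Subtype.val (mem_center_iff.1 ha b)).symm) (fun h => by
        rcases ht.dvd_mul.1 h with h | h
        · exact htn ((Nat.prime_dvd_prime_iff_eq ht hn).1 h)
        · exact htw ((Nat.prime_dvd_prime_iff_eq ht hw₀).1 h)) ?_ hN
    · obtain ⟨z, hz⟩ := exists_ne (1 : center R)
      have h7 : ((z : R) : K) ∈ (center R).map R.subtype := ⟨z, z.2, rfl⟩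
      rw [hb, Subgroup.mem_bot] at h7
      exact hz (Subtype.ext (Subtype.ext h7))
    · intro x hx hxp a ha hax
      have haR : a ∈ R := hle ha
      have hxd : orderOf x ∣ n * w₀ := by
        rw [← hord]
        exact orderOf_dvd_of_mem_zpowers hx
      obtain ⟨i, rfl⟩ := (mem_powers_iff_mem_zpowers).2 hx
      have hmul : (y * w) ^ i = y ^ i * w ^ i := hyw.mul_pow i
      simp only at hax hxp hxd
      rcases (Nat.Prime.dvd_mul hxp).1 hxd with h | h
      · have h7 : orderOf ((y * w) ^ i) = n := (Nat.prime_dvd_prime_iff_eq hxp hn).1 h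
        -- the `w`-part is trivial
        have h8 : (w ^ i) ^ n = 1 := by
          have h9 : ((y * w) ^ i) ^ n = 1 := by rw [← h7, pow_orderOf_eq_one]
          rw [hmul, (hyw.pow_pow i i).mul_pow, ← pow_mul y, mul_comm i n, pow_mul, hyn, one_pow, one_mul] at h9
          exact h9
        have h10 : w ^ i = 1 := by
          have h11 : orderOf (w ^ i) ∣ w₀ := hw ▸ orderOf_pow_dvd i
          have h12 := orderOf_dvd_of_pow_eq_one h8
          have h13 := Nat.dvd_gcd h12 h11
          rw [(Nat.coprime_primes hn hw₀).2 hne, Nat.dvd_one] at h13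
          exact orderOf_eq_one_iff.1 h13
        rw [h10, mul_one] at hmul
        rw [hmul] at h7 hax
        have h14 := hgen hn h7 hyn ⟨i, zpow_natCast y i⟩
        obtain ⟨c, hc⟩ := h14
        have hc' : (y ^ i) ^ c = y := hc
        refine hfix a haR ?_
        rw [← hc']
        exact hax.zpow_right c
      · have h7 : orderOf ((y * w) ^ i) = w₀ := (Nat.prime_dvd_prime_iff_eq hxp hw₀).1 h
        have h8 : (y ^ i) ^ w₀ = 1 := by
          have h9 : ((y * w) ^ i) ^ w₀ = 1 := by rw [← h7, pow_orderOf_eq_one]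
          rw [hmul, (hyw.pow_pow i i).mul_pow, ← pow_mul w, mul_comm i w₀, pow_mul w, hwn, one_pow, mul_one] at h9
          exact h9
        have h10 : y ^ i = 1 := by
          have h11 : orderOf (y ^ i) ∣ n := hy ▸ orderOf_pow_dvd i
          have h12 := orderOf_dvd_of_pow_eq_one h8
          have h13 := Nat.dvd_gcd h11 h12
          rw [(Nat.coprime_primes hn hw₀).2 hne, Nat.dvd_one] at h13
          exact orderOf_eq_one_iff.1 h13
        rw [h10, one_mul] at hmul
        rw [hmul] at h7 hax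
        have h14 := hgen hw₀ h7 hwn ⟨i, zpow_natCast w i⟩
        obtain ⟨c, hc⟩ := h14
        have hc' : (w ^ i) ^ c = w := hc
        have h15 : a ∈ C := ⟨haR, by
          refine mem_centralizer_singleton_iff.2 ?_
          rw [← hc']
          exact (hax.zpow_right c).eq⟩
        rw [hCb, Subgroup.mem_bot] at h15
        exact h15

end numerics

end Cfsg.Agent.H290.Wei
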